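import Groth.Agent.SolvBound.TopGroup
import Groth.Agent.GrpSchLib.WordSeries
import Mathlib.AlgebraicGeometry.AlgClosed.Basic
import Mathlib.AlgebraicGeometry.Morphisms.FiniteType
import Mathlib.AlgebraicGeometry.Noetherian
import Groth.Prelude.Def_AGF

/-!
# A bound for the solvability and nilpotency class of an algebraic group
-/

set_option autoImplicit false
set_option linter.style.haveILetI false
set_option backward.isDefEq.respectTransparency false
set_option backward.isDefEq.respectTransparency.types false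

universe u

open CategoryTheory CategoryTheory.Limits MonoidalCategory CartesianMonoidalCategory MonObj GrpObj AlgebraicGeometry
open scoped CategoryTheory.MonObj
open TopologicalSpace

namespace Groth.Agent.SolvBound

variable {K : Type u} [Field K] [IsAlgClosed K] {G : Over (Spec (CommRingCat.of K))}

/-- The point of the space under a rational point. -/
noncomputable def pt (x : 𝟙_ (Over (Spec (CommRingCat.of K))) ⟶ G) : G.left := x.left (IsLocalRing.closedPoint K)

/-- Rational points with the Zariski topology. -/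
noncomputable abbrev ptsTop : TopologicalSpace (𝟙_ (Over (Spec (CommRingCat.of K))) ⟶ G) :=
  TopologicalSpace.induced pt inferInstance

variable [LocallyOfFiniteType G.hom]

theorem pt_injective : Function.Injective (pt : (𝟙_ (Over (Spec (CommRingCat.of K))) ⟶ G) → G.left) := by
  intro x y h
  ext1
  exact ext_of_apply_closedPoint_eq G.hom (Over.w x) (Over.w y) h

theorem isClosed_pt (x : 𝟙_ (Over (Spec (CommRingCat.of K))) ⟶ G) : IsClosed {pt x} := by
  have h := ((pointEquivClosedPoint G.hom) ⟨x.left, Over.w x⟩).2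
  simpa [pt, mem_closedPoints_iff] using! h

theorem exists_pt {g : G.left} (hg : IsClosed {g}) : ∃ x : 𝟙_ (Over (Spec (CommRingCat.of K))) ⟶ G, pt x = g := by
  let s := (pointEquivClosedPoint G.hom).symm ⟨g, hg⟩
  refine ⟨Over.homMk s.1 s.2, ?_⟩
  exact congrArg Subtype.val ((pointEquivClosedPoint G.hom).apply_symm_apply ⟨g, hg⟩)

theorem t1 : @T1Space _ (ptsTop (G := G)) := by
  letI := ptsTop (G := G)
  refine ⟨fun x => ?_⟩
  have h : ({x} : Set (𝟙_ (Over (Spec (CommRingCat.of K))) ⟶ G)) = pt ⁻¹' {pt x} := by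
    ext y
    exact ⟨fun e => congrArg pt e, fun e => pt_injective e⟩
  rw [h]
  exact (isClosed_pt x).preimage continuous_induced_dom

theorem noeth [QuasiCompact G.hom] : @NoetherianSpace _ (ptsTop (G := G)) := by
  letI := ptsTop (G := G)
  haveI : IsLocallyNoetherian G.left := LocallyOfFiniteType.isLocallyNoetherian G.hom
  haveI : CompactSpace G.left := QuasiCompact.compactSpace_of_compactSpace G.hom
  haveI : AlgebraicGeometry.IsNoetherian G.left := {}
  exact (Topology.IsInducing.induced pt).noetherianSpace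

theorem dim_le : @topologicalKrullDim _ (ptsTop (G := G)) ≤ topologicalKrullDim G.left := by
  letI := ptsTop (G := G)
  exact (Topology.IsInducing.induced pt).topologicalKrullDim_le

theorem dense_pts (Z : Set G.left) (hZ : IsClosed Z) : closure (pt '' (pt ⁻¹' Z : Set (𝟙_ (Over (Spec (CommRingCat.of K))) ⟶ G))) = Z := by
  haveI : JacobsonSpace G.left := LocallyOfFiniteType.jacobsonSpace G.hom
  have h : pt '' (pt ⁻¹' Z : Set (𝟙_ (Over (Spec (CommRingCat.of K))) ⟶ G)) = Z ∩ closedPoints G.left := by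
    ext g
    constructor
    · rintro ⟨x, hx, rfl⟩
      exact ⟨hx, isClosed_pt x⟩
    · rintro ⟨hg, hgc⟩
      obtain ⟨x, rfl⟩ := exists_pt hgc
      exact ⟨x, hg, rfl⟩
  rw [h]
  exact JacobsonSpace.closure_inter_closedPoints hZ

theorem components_le [QuasiCompact G.hom] :
    @Finite (@ConnectedComponents _ (ptsTop (G := G))) ∧
      (Nat.card (@ConnectedComponents _ (ptsTop (G := G))) : ℕ∞) ≤ (irreducibleComponents G.left).encard := by
  letI := ptsTop (G := G)
  haveI : IsLocallyNoetherian G.left := LocallyOfFiniteType.isLocallyNoetherian G.hom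
  haveI : CompactSpace G.left := QuasiCompact.compactSpace_of_compactSpace G.hom
  haveI : AlgebraicGeometry.IsNoetherian G.left := {}
  haveI : Finite (irreducibleComponents G.left) := NoetherianSpace.finite_irreducibleComponents.to_subtype
  have hirr : ∀ Z : irreducibleComponents G.left, IsIrreducible (pt ⁻¹' (Z : Set G.left) : Set (𝟙_ (Over (Spec (CommRingCat.of K))) ⟶ G)) := fun Z => by
    have hc := dense_pts _ (isClosed_of_mem_irreducibleComponents _ Z.2)
    have h : IsIrreducible (pt '' (pt ⁻¹' (Z : Set G.left) : Set (𝟙_ (Over (Spec (CommRingCat.of K))) ⟶ G))) :=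
      isIrreducible_iff_closure.1 (by rw [hc]; exact Z.2.1)
    refine ⟨?_, ?_⟩
    · obtain ⟨_, x, hx, -⟩ := h.1
      exact ⟨x, hx⟩
    · intro U V hU hV hxU hxV
      obtain ⟨U', hU', rfl⟩ := isOpen_induced_iff.1 hU
      obtain ⟨V', hV', rfl⟩ := isOpen_induced_iff.1 hV
      obtain ⟨x, hx, hxU⟩ := hxU
      obtain ⟨y, hy, hyV⟩ := hxV
      obtain ⟨_, ⟨z, hz, rfl⟩, hzUV⟩ := h.2 U' V' hU' hV' ⟨pt x, ⟨x, hx, rfl⟩, hxU⟩ ⟨pt y, ⟨y, hy, rfl⟩, hyV⟩
      exact ⟨z, hz, hzUV⟩
  let f : irreducibleComponents G.left → ConnectedComponents (𝟙_ (Over (Spec (CommRingCat.of K))) ⟶ G) := fun Z =>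
    ConnectedComponents.mk (hirr Z).1.some
  have hf : Function.Surjective f := fun c => by
    obtain ⟨x, rfl⟩ := ConnectedComponents.surjective_coe c
    let Z : irreducibleComponents G.left := ⟨_, irreducibleComponent_mem_irreducibleComponents (pt x)⟩
    refine ⟨Z, ConnectedComponents.coe_eq_coe'.2 ?_⟩
    exact (hirr Z).isConnected.isPreconnected.subset_connectedComponent
      (show x ∈ pt ⁻¹' (Z : Set G.left) from mem_irreducibleComponent) (hirr Z).1.some_mem
  refine ⟨Finite.of_surjective f hf, ?_⟩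
  rw [Set.encard, ENat.card_eq_coe_natCard]
  exact_mod_cast Nat.card_le_card_of_surjective f hf

variable [GrpObj G]

theorem contOps : @ContOps (𝟙_ (Over (Spec (CommRingCat.of K))) ⟶ G) _ (ptsTop (G := G)) := by
  letI := ptsTop (G := G)
  have key : ∀ φ : G ⟶ G, Continuous fun x : 𝟙_ (Over (Spec (CommRingCat.of K))) ⟶ G => x ≫ φ := fun φ => by
    refine continuous_induced_rng.2 ?_
    show Continuous fun x : 𝟙_ (Over (Spec (CommRingCat.of K))) ⟶ G => φ.left (pt x)
    exact φ.left.continuous.comp continuous_induced_dom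
  have hcst : ∀ (a x : 𝟙_ (Over (Spec (CommRingCat.of K))) ⟶ G), x ≫ (toUnit G ≫ a) = a := fun a x => by
    rw [← Category.assoc, toUnit_unique (x ≫ toUnit G) (𝟙 _), Category.id_comp]
  refine ⟨fun a => ?_, fun a => ?_, ?_, fun a => ?_⟩
  · convert key ((toUnit G ≫ a) * 𝟙 G) using 2 with x
    rw [MonObj.comp_mul, hcst, Category.comp_id]
  · convert key (𝟙 G * (toUnit G ≫ a)) using 2 with x
    rw [MonObj.comp_mul, hcst, Category.comp_id]
  · convert key ((𝟙 G)⁻¹) using 2 with x
    rw [GrpObj.comp_inv, Category.comp_id]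
  · convert key (𝟙 G * (toUnit G ≫ a) * (𝟙 G)⁻¹) using 2 with x
    rw [MonObj.comp_mul, MonObj.comp_mul, hcst, GrpObj.comp_inv, Category.comp_id]

theorem pts_eq_bot_bound [QuasiCompact G.hom] {d N : ℕ} (hd : topologicalKrullDim G.left ≤ d)
    (hN : (irreducibleComponents G.left).encard ≤ N) :
    ((∃ n, derivedSeries (𝟙_ (Over (Spec (CommRingCat.of K))) ⟶ G) n = ⊥) →
      derivedSeries (𝟙_ (Over (Spec (CommRingCat.of K))) ⟶ G) (N + d) = ⊥) ∧
    ((∃ n, (⊤ : Subgroup (𝟙_ (Over (Spec (CommRingCat.of K))) ⟶ G)).lowerCentralSeries n = ⊥) →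
      (⊤ : Subgroup (𝟙_ (Over (Spec (CommRingCat.of K))) ⟶ G)).lowerCentralSeries (N + d) = ⊥) := by
  letI := ptsTop (G := G)
  haveI := t1 (G := G)
  haveI := noeth (G := G)
  obtain ⟨hfin, hcard⟩ := components_le (G := G)
  haveI := hfin
  have hN' : Nat.card (ConnectedComponents (𝟙_ (Over (Spec (CommRingCat.of K))) ⟶ G)) ≤ N := by
    exact_mod_cast hcard.trans hN
  have hd' := (dim_le (G := G)).trans hd
  exact ⟨derivedSeries_eq_bot contOps hd' hN', lowerCentralSeries_eq_bot contOps hd' hN'⟩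

theorem id_eq_algebraMap : (Over.mk (Spec.map (CommRingCat.ofHom (algebraMap K K))) : Over (Spec (CommRingCat.of K))) =
    𝟙_ (Over (Spec (CommRingCat.of K))) := by
  show _ = Over.mk (𝟙 (Spec (CommRingCat.of K)))
  congr 1
  rw [Algebra.algebraMap_self, CommRingCat.ofHom_id, Spec.map_id]

/-- A smooth algebraic group over an algebraically closed field is solvable (nilpotent) if and only if it is so of
class the sum of the dimension and the number of components. -/
theorem solvable_nilpotent_iff [Smooth G.hom] [QuasiCompact G.hom] {d N : ℕ} (hd : topologicalKrullDim G.left ≤ d)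
    (hN : (irreducibleComponents G.left).encard ≤ N) :
    (Red.IsSolvableGrp G ↔ ∀ T : Over (Spec (CommRingCat.of K)), derivedSeries (T ⟶ G) (N + d) = ⊥) ∧
    (AGF.IsNilpotentGrp G ↔ ∀ T : Over (Spec (CommRingCat.of K)),
      (⊤ : Subgroup (T ⟶ G)).lowerCentralSeries (N + d) = ⊥) := by
  have hs : ∀ n, ((∀ T : Over (Spec (CommRingCat.of K)), derivedSeries (T ⟶ G) n = ⊥) ↔
      derivedSeries (𝟙_ (Over (Spec (CommRingCat.of K))) ⟶ G) n = ⊥) ∧
      ((∀ T : Over (Spec (CommRingCat.of K)), (⊤ : Subgroup (T ⟶ G)).lowerCentralSeries n = ⊥) ↔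
      (⊤ : Subgroup (𝟙_ (Over (Spec (CommRingCat.of K))) ⟶ G)).lowerCentralSeries n = ⊥) := fun n => by
    have h := GrpSchLib.WordSeries.series_iff (G := G) K n
    rwa [id_eq_algebraMap] at h
  obtain ⟨hb1, hb2⟩ := pts_eq_bot_bound hd hN
  refine ⟨⟨fun ⟨n, hn⟩ => (hs _).1.2 (hb1 ⟨n, hn _⟩), fun h => ⟨_, h⟩⟩, ⟨fun ⟨n, hn⟩ => ?_, fun h => ⟨N + d, fun T => ?_⟩⟩⟩
  · exact (hs _).2.2 (hb2 ⟨n, Subgroup.lowerCentralSeries_eq_bot_iff_upperCentralSeries_eq_top.2 (hn _)⟩)
  · exact Subgroup.lowerCentralSeries_eq_bot_iff_upperCentralSeries_eq_top.1 (h T)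

end Groth.Agent.SolvBound
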