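import Groth.Agent.SolvBound.Locus
import Groth.Agent.AlgSpPts.Sep
import Groth.Agent.AlgSpDec.ConstrDescent
import Mathlib.AlgebraicGeometry.Morphisms.UniversallyOpen

/-!
# Closedness and constructibility of the loci of solvable and nilpotent fibres
-/

set_option autoImplicit false
set_option linter.style.haveILetI false
set_option backward.isDefEq.respectTransparency false
set_option backward.isDefEq.respectTransparency.types false

universe u

open CategoryTheory CategoryTheory.Limits MonoidalCategory CartesianMonoidalCategory MonObj GrpObj AlgebraicGeometry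
open scoped CategoryTheory.MonObj
open Topology TopologicalSpace
open Groth.Agent.GrpSchLib.WordSeries

namespace Groth.Agent.SolvBound

variable {S : Scheme.{u}} {G : Over S} [GrpObj G]

section ops

theorem prod_hom {X Y : Over S} {P : MorphismProperty Scheme.{u}} [P.IsStableUnderBaseChange]
    [P.IsStableUnderComposition] (hX : P X.hom) (hY : P Y.hom) : P (X ⊗ Y).hom :=
  P.comp_mem (pullback.fst X.hom Y.hom) X.hom (P.pullback_fst _ _ hY) hX

theorem derSrc_prop {P : MorphismProperty Scheme.{u}} [P.IsStableUnderBaseChange]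
    [P.IsStableUnderComposition] (hG : P G.hom) : ∀ n, P (derSrc G n).hom
  | 0 => hG
  | n + 1 => prod_hom (derSrc_prop hG n) (derSrc_prop hG n)

theorem lowSrc_prop {P : MorphismProperty Scheme.{u}} [P.IsStableUnderBaseChange]
    [P.IsStableUnderComposition] (hG : P G.hom) : ∀ n, P (lowSrc G n).hom
  | 0 => hG
  | n + 1 => prod_hom (lowSrc_prop hG n) hG

end ops

theorem lc_compl {X : Type*} [TopologicalSpace X] {E : Set X} (h : IsLocallyConstructible E) :
    IsLocallyConstructible Eᶜ := fun x => by
  obtain ⟨U, hU, hUo, hc⟩ := h x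
  exact ⟨U, hU, hUo, hc.compl⟩

theorem isOpen_bad [IsSeparated G.hom] {W : Over S} (w : W ⟶ G) [Flat W.hom] [LocallyOfFinitePresentation W.hom] :
    IsOpen (bad w) := by
  haveI : IsClosedImmersion (η[G].left ≫ G.hom) := by
    rw [Over.w η[G]]; exact inferInstanceAs (IsClosedImmersion (𝟙 S))
  haveI : IsClosedImmersion η[G].left := IsClosedImmersion.of_comp η[G].left G.hom
  exact W.hom.isOpenMap _
    (η[G].left.isClosedEmbedding.isClosed_range.preimage w.left.continuous).isOpen_compl

theorem isLocallyConstructible_bad [LocallyOfFinitePresentation G.hom] [QuasiSeparated G.hom] {W : Over S}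
    (w : W ⟶ G) [QuasiCompact W.hom] [LocallyOfFinitePresentation W.hom] : IsLocallyConstructible (bad w) := by
  haveI : LocallyOfFinitePresentation (η[G].left ≫ G.hom) := by
    rw [Over.w η[G]]; exact inferInstanceAs (LocallyOfFinitePresentation (𝟙 S))
  haveI : LocallyOfFinitePresentation η[G].left := AlgSpPts.locallyOfFinitePresentation_of_comp η[G].left G.hom
  haveI : QuasiCompact (η[G].left ≫ G.hom) := by
    rw [Over.w η[G]]; exact inferInstanceAs (QuasiCompact (𝟙 S))
  haveI : QuasiCompact η[G].left := QuasiCompact.of_comp η[G].left G.hom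
  have h : IsLocallyConstructible (Set.range η[G].left) := by
    rw [← Set.image_univ]
    exact η[G].left.isLocallyConstructible_image IsConstructible.univ.isLocallyConstructible
  exact W.hom.isLocallyConstructible_image (lc_compl (AlgSpDec.isLocallyConstructible_preimage_hom w.left h))

theorem smooth_fibre [Smooth G.hom] (s : S) : Smooth (G.hom.fiberToSpecResidueField s) :=
  MorphismProperty.pullback_snd (P := @Smooth) _ _ inferInstance

theorem isClosed_loci [Smooth G.hom] [QuasiCompact G.hom] [IsSeparated G.hom] :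
    IsClosed {s : S | Red.IsSolvableGrp (Red.geomFibre s G)} ∧
      IsClosed {s : S | AGF.IsNilpotentGrp (Red.geomFibre s G)} := by
  have h : ∀ s : S, ∃ V : S.Opens, ∃ B : ℕ, s ∈ V ∧ ∀ t ∈ V,
      (Red.IsSolvableGrp (Red.geomFibre t G) ↔ t ∉ bad (derHom G B)) ∧
      (AGF.IsNilpotentGrp (Red.geomFibre t G) ↔ t ∉ bad (lowHom G B)) := fun s => by
    obtain ⟨_, ⟨V, hV, rfl⟩, hs, -⟩ := S.isBasis_affineOpens.exists_subset_of_mem_open (Set.mem_univ s) isOpen_univ
    obtain ⟨B, hB⟩ := exists_bound (G := G) smooth_fibre hV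
    exact ⟨V, B, hs, hB⟩
  constructor
  · rw [← isOpen_compl_iff, isOpen_iff_forall_mem_open]
    intro s hs
    obtain ⟨V, B, hsV, hV⟩ := h s
    haveI : Smooth (derSrc G B).hom := derSrc_prop (P := @Smooth) inferInstance B
    exact ⟨(V : Set S) ∩ bad (derHom G B), fun t ht ht' => ((hV t ht.1).1.1 ht') ht.2,
      V.2.inter (isOpen_bad _), hsV, by_contra fun hc => hs ((hV s hsV).1.2 hc)⟩
  · rw [← isOpen_compl_iff, isOpen_iff_forall_mem_open]
    intro s hs
    obtain ⟨V, B, hsV, hV⟩ := h s
    haveI : Smooth (lowSrc G B).hom := lowSrc_prop (P := @Smooth) inferInstance B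
    exact ⟨(V : Set S) ∩ bad (lowHom G B), fun t ht ht' => ((hV t ht.1).2.1 ht') ht.2,
      V.2.inter (isOpen_bad _), hsV, by_contra fun hc => hs ((hV s hsV).2.2 hc)⟩

theorem isLocallyConstructible_loci [LocallyOfFinitePresentation G.hom] [QuasiCompact G.hom] [QuasiSeparated G.hom]
    (hsm : ∀ s : S, Smooth (G.hom.fiberToSpecResidueField s)) :
    IsLocallyConstructible {s : S | Red.IsSolvableGrp (Red.geomFibre s G)} ∧
      IsLocallyConstructible {s : S | AGF.IsNilpotentGrp (Red.geomFibre s G)} := by
  constructor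
  · refine ConsPropLib.lc_of_affine fun V hV => ?_
    haveI : IsAffine V.toScheme := hV
    obtain ⟨B, hB⟩ := exists_bound hsm hV
    haveI : QuasiCompact (derSrc G B).hom := derSrc_prop (P := @QuasiCompact) inferInstance B
    haveI : LocallyOfFinitePresentation (derSrc G B).hom := derSrc_prop (P := @LocallyOfFinitePresentation) inferInstance B
    have e : V.ι ⁻¹' {s : S | Red.IsSolvableGrp (Red.geomFibre s G)} = V.ι ⁻¹' (bad (derHom G B))ᶜ :=
      Set.ext fun t => (hB (V.ι t) t.2).1
    rw [e]
    exact ((lc_compl (isLocallyConstructible_bad _)).preimage_of_isOpenEmbedding V.ι.isOpenEmbedding).isConstructible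
  · refine ConsPropLib.lc_of_affine fun V hV => ?_
    haveI : IsAffine V.toScheme := hV
    obtain ⟨B, hB⟩ := exists_bound hsm hV
    haveI : QuasiCompact (lowSrc G B).hom := lowSrc_prop (P := @QuasiCompact) inferInstance B
    haveI : LocallyOfFinitePresentation (lowSrc G B).hom := lowSrc_prop (P := @LocallyOfFinitePresentation) inferInstance B
    have e : V.ι ⁻¹' {s : S | AGF.IsNilpotentGrp (Red.geomFibre s G)} = V.ι ⁻¹' (bad (lowHom G B))ᶜ :=
      Set.ext fun t => (hB (V.ι t) t.2).2
    rw [e]
    exact ((lc_compl (isLocallyConstructible_bad _)).preimage_of_isOpenEmbedding V.ι.isOpenEmbedding).isConstructible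

end Groth.Agent.SolvBound
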