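import Groth.Agent.SolvBound.Points
import Groth.Agent.GeomComp5.Constancy
import Groth.Agent.GrpSchLib.FibreDimGrp
import Groth.Agent.RedOpen.NhdCent
import Groth.Agent.MorLib.WeightConstr
import Groth.Agent.DSPtsLib.Basic

/-!
# The loci of solvable and nilpotent fibres
-/

set_option autoImplicit false
set_option linter.style.haveILetI false
set_option backward.isDefEq.respectTransparency false
set_option backward.isDefEq.respectTransparency.types false

universe u

open CategoryTheory CategoryTheory.Limits MonoidalCategory CartesianMonoidalCategory MonObj GrpObj AlgebraicGeometry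
open scoped CategoryTheory.MonObj
open Topology TopologicalSpace

namespace Groth.Agent.SolvBound

variable {S : Scheme.{u}} {G : Over S} [GrpObj G]

theorem eq_one_of_mem_range {X : Over S} [IsReduced X.left] (y : X ⟶ G)
    (h : ∀ p, y.left p ∈ Set.range η[G].left) : y = 1 := by
  haveI : IsImmersion (η[G].left ≫ G.hom) := by
    rw [Over.w η[G]]; exact inferInstanceAs (IsImmersion (𝟙 S))
  haveI : IsImmersion η[G].left := IsImmersion.of_comp η[G].left G.hom
  let j := pullback.fst y.left η[G].left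
  haveI hj : Surjective j := by
    refine ⟨Set.range_eq_univ.mp ?_⟩
    show Set.range (pullback.fst y.left η[G].left) = Set.univ
    rw [Scheme.Pullback.range_fst, Set.eq_univ_iff_forall]
    exact h
  haveI : IsImmersion j := MorphismProperty.pullback_fst (P := @IsImmersion) _ _ inferInstance
  haveI : IsClosedImmersion j :=
    IsClosedImmersion.of_isPreimmersion j (by rw [j.surjective.range_eq]; exact isClosed_univ)
  haveI : IsIso j := isIso_of_isClosedImmersion_of_surjective j
  have hy : y.left = (inv j ≫ pullback.snd y.left η[G].left) ≫ η[G].left := by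
    rw [Category.assoc, ← pullback.condition, IsIso.inv_hom_id_assoc]
  let l : X ⟶ 𝟙_ (Over S) := Over.homMk (inv j ≫ pullback.snd y.left η[G].left)
    (Eq.trans (by rw [Category.assoc, Category.assoc]; exact congrArg (fun m => inv j ≫ pullback.snd y.left η[G].left ≫ m) (Over.w η[G]).symm) ((congrArg (fun m => m ≫ G.hom) hy.symm).trans (Over.w y)))
  have : y = l ≫ η[G] := Over.OverMorphism.ext hy
  rw [this, Hom.one_def, toUnit_unique l (toUnit X)]

/-- The points over which the morphism is not trivial. -/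
noncomputable def bad {W : Over S} (w : W ⟶ G) : Set S := W.hom '' (w.left ⁻¹' Set.range η[G].left)ᶜ

theorem eq_one_of_notMem_bad {W X : Over S} [IsReduced X.left] (w : W ⟶ G) {s : S} (hs : s ∉ bad w) (x : X ⟶ W)
    (hX : ∀ p, X.hom p = s) : x ≫ w = 1 := by
  refine eq_one_of_mem_range _ fun p => ?_
  by_contra hp
  refine hs ⟨x.left p, hp, ?_⟩
  rw [← Scheme.Hom.comp_apply, Over.w x, hX]

theorem notMem_bad {W : Over S} (w : W ⟶ G) {K : Type u} [Field K] (g : Spec (CommRingCat.of K) ⟶ S) {s : S}
    (hg : g (IsLocalRing.closedPoint K) = s)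
    (h : ∀ (T : Over (Spec (CommRingCat.of K))) (x : (Over.map g).obj T ⟶ W), x ≫ w = 1) : s ∉ bad w := by
  rintro ⟨p, hp, hps⟩
  refine hp ?_
  obtain ⟨t, ht⟩ : p ∈ Set.range (pullback.fst W.hom g) := by
    rw [Scheme.Pullback.range_fst]
    exact ⟨IsLocalRing.closedPoint K, hg.trans hps.symm⟩
  have h1 := h (Red.bc g W) (DSPtsLib.theta g (𝟙 (Red.bc g W)))
  have h2 : (DSPtsLib.theta g (𝟙 (Red.bc g W)) ≫ w).left t =
      w.left p := by
    rw [Over.comp_left, Scheme.Hom.comp_apply, DSPtsLib.theta_left, Scheme.Hom.comp_apply, ← ht]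
    rfl
  rw [h1, Hom.one_def, Over.comp_left, Scheme.Hom.comp_apply] at h2
  show w.left p ∈ Set.range η[G].left
  exact ⟨_, h2⟩

/-- Points of the base change as a group of points over the base. -/
noncomputable def thetaEquiv {K : Type u} [Field K] (g : Spec (CommRingCat.of K) ⟶ S)
    (T : Over (Spec (CommRingCat.of K))) : (T ⟶ Red.bc g G) ≃* ((Over.map g).obj T ⟶ G) :=
  MulEquiv.ofBijective ({ toFun := DSPtsLib.theta g, map_mul' := DSPtsLib.theta_mul g } : (T ⟶ Red.bc g G) →ₙ* ((Over.map g).obj T ⟶ G))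
    (DSPtsLib.theta_bijective g)

theorem derived_theta {K : Type u} [Field K] (g : Spec (CommRingCat.of K) ⟶ S) (T : Over (Spec (CommRingCat.of K)))
    (n : ℕ) : derivedSeries (T ⟶ Red.bc g G) n = ⊥ ↔ derivedSeries ((Over.map g).obj T ⟶ G) n = ⊥ := by
  let e := thetaEquiv (G := G) g T
  rw [← map_derivedSeries_eq (f := e.toMonoidHom) e.surjective n, Subgroup.map_eq_bot_iff_of_injective _ e.injective]

theorem lower_theta {K : Type u} [Field K] (g : Spec (CommRingCat.of K) ⟶ S) (T : Over (Spec (CommRingCat.of K)))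
    (n : ℕ) : (⊤ : Subgroup (T ⟶ Red.bc g G)).lowerCentralSeries n = ⊥ ↔
      (⊤ : Subgroup ((Over.map g).obj T ⟶ G)).lowerCentralSeries n = ⊥ := by
  let e := thetaEquiv (G := G) g T
  rw [← Subgroup.map_eq_bot_iff_of_injective _ (f := e.toMonoidHom) e.injective, Subgroup.map_lowerCentralSeries,
    Subgroup.map_top_of_surjective _ e.surjective]

open GrpSchLib.WordSeries in
theorem series_notMem_bad {K : Type u} [Field K] [IsAlgClosed K] (g : Spec (CommRingCat.of K) ⟶ S) {s : S}
    (hg : g (IsLocalRing.closedPoint K) = s) (n : ℕ) [Smooth (Red.bc g G).hom] :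
    ((∀ T : Over (Spec (CommRingCat.of K)), derivedSeries (T ⟶ Red.bc g G) n = ⊥) ↔ s ∉ bad (derHom G n)) ∧
    ((∀ T : Over (Spec (CommRingCat.of K)), (⊤ : Subgroup (T ⟶ Red.bc g G)).lowerCentralSeries n = ⊥) ↔
      s ∉ bad (lowHom G n)) := by
  have hser := series_iff (G := Red.bc g G) K n
  rw [id_eq_algebraMap] at hser
  haveI : IsReduced ((Over.map g).obj (𝟙_ (Over (Spec (CommRingCat.of K))))).left :=
    inferInstanceAs (IsReduced (Spec (CommRingCat.of K)))
  have hX : ∀ p : ((Over.map g).obj (𝟙_ (Over (Spec (CommRingCat.of K))))).left,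
      ((Over.map g).obj (𝟙_ (Over (Spec (CommRingCat.of K))))).hom p = s := fun p => by
    show (𝟙 (Spec (CommRingCat.of K)) ≫ g) p = s
    rw [Category.id_comp]
    exact (congrArg g (Subsingleton.elim _ _)).trans hg
  constructor
  · refine ⟨fun h => notMem_bad _ g hg fun T x => ?_, fun h => hser.1.2 ((derived_theta g _ n).2 ?_)⟩
    · have h' := (derived_theta g T n).1 (h T)
      rw [derivedSeries_eq, closure_eq_bot_iff _ (der_eq_range _ n)] at h'
      exact h' x
    · rw [derivedSeries_eq, closure_eq_bot_iff _ (der_eq_range _ n)]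
      exact fun x => eq_one_of_notMem_bad _ h x hX
  · refine ⟨fun h => notMem_bad _ g hg fun T x => ?_, fun h => hser.2.2 ((lower_theta g _ n).2 ?_)⟩
    · have h' := (lower_theta g T n).1 (h T)
      rw [lowerCentralSeries_eq, closure_eq_bot_iff _ (low_eq_range _ n)] at h'
      exact h' x
    · rw [lowerCentralSeries_eq, closure_eq_bot_iff _ (low_eq_range _ n)]
      exact fun x => eq_one_of_notMem_bad _ h x hX

theorem exists_bound [LocallyOfFinitePresentation G.hom] [QuasiCompact G.hom] [QuasiSeparated G.hom]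
    (hsm : ∀ s : S, Smooth (G.hom.fiberToSpecResidueField s)) {V : S.Opens} (hV : IsAffineOpen V) :
    ∃ B : ℕ, ∀ s ∈ V, (Red.IsSolvableGrp (Red.geomFibre s G) ↔ s ∉ bad (GrpSchLib.WordSeries.derHom G B)) ∧
      (AGF.IsNilpotentGrp (Red.geomFibre s G) ↔ s ∉ bad (GrpSchLib.WordSeries.lowHom G B)) := by
  obtain ⟨d, hd⟩ : ∃ d : ℕ, ∀ t ∈ V, topologicalKrullDim ↥(G.hom ⁻¹' {t}) ≤ (d : WithBot ℕ∞) := by
    obtain ⟨b, hb⟩ := hV.isCompact.elim_directed_cover
      (fun n : ℕ => {t : S | topologicalKrullDim ↥(G.hom ⁻¹' {t}) ≤ (n : WithBot ℕ∞)}) (GrpSchLib.FibreDimGrp.isOpen_le G)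
      (fun t _ => by
        obtain ⟨n, hn⟩ := GrpSchLib.FibreDimGrp.exists_nat G t
        exact Set.mem_iUnion.mpr ⟨n, hn.le⟩)
      (Monotone.directed_le fun a b hab t ht => le_trans (α := WithBot ℕ∞) ht (Nat.cast_le.mpr hab))
    exact ⟨b, fun t ht => hb ht⟩
  have hfin : ∀ t : S, ∃ n : ℕ, MoreMor.nGeomIrredComp G.hom t ≤ n := fun t => by
    let g := GeomComp5.geomPt t
    haveI : LocallyOfFiniteType (pullback.snd G.hom g) := inferInstance
    haveI : IsLocallyNoetherian (pullback G.hom g) := LocallyOfFiniteType.isLocallyNoetherian (pullback.snd G.hom g)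
    haveI : CompactSpace ↥(pullback G.hom g) := QuasiCompact.compactSpace_of_compactSpace (pullback.snd G.hom g)
    haveI : AlgebraicGeometry.IsNoetherian (pullback G.hom g) := {}
    have h := (GeomComp5.nGeom_eq G.hom g).1
    rw [GeomComp5.pt_geomPt] at h
    obtain ⟨n, hn⟩ := ENat.ne_top_iff_exists.1 (Set.Finite.encard_lt_top
      (NoetherianSpace.finite_irreducibleComponents (α := ↥(pullback G.hom g)))).ne
    exact ⟨n, (h.trans hn.symm).le⟩
  obtain ⟨N, hN⟩ : ∃ N : ℕ, ∀ t ∈ V, MoreMor.nGeomIrredComp G.hom t ≤ N := by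
    haveI : IsAffine V.toScheme := hV
    let C : ℕ → Set V.toScheme := fun n => V.ι ⁻¹' GeomComp5.level (fun a _ => a ≤ n) G.hom
    have hC : ∀ n, IsConstructible (C n) := fun n => by
      refine IsLocallyConstructible.isConstructible ?_
      exact (GeomComp5.isLocallyConstructible_level _ G.hom).preimage_of_isOpenEmbedding V.ι.isOpenEmbedding
    obtain ⟨F, hF⟩ := isCompact_univ.elim_finite_subcover
      (fun n : ℕ => (WithTopology.ofTopology ⁻¹' C n : Set (WithConstructibleTopology V.toScheme)))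
      (fun n => WithConstructibleTopology.isOpen_iff.mpr (MorLib.WT.isClopen_constructibleTopology (hC n)).1)
      (fun z _ => by
        obtain ⟨n, hn⟩ := hfin (V.ι (WithTopology.ofTopology z))
        exact Set.mem_iUnion.mpr ⟨n, hn⟩)
    refine ⟨F.sup id, fun t ht => ?_⟩
    obtain ⟨n, hnF, hn⟩ : ∃ n ∈ F, (⟨t, ht⟩ : V.toScheme) ∈ C n := by
      simpa using hF (Set.mem_univ (WithTopology.toTopology _ (⟨t, ht⟩ : V.toScheme)))
    exact le_trans (α := ℕ∞) hn (by exact_mod_cast Finset.le_sup (f := id) hnF)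
  refine ⟨N + d, fun s hs => ?_⟩
  let g := Red.geomPt s
  have hg : g (IsLocalRing.closedPoint _) = s := RedOpen.geomPt_closedPoint s
  haveI : Smooth (Red.geomFibre s G).hom := by
    haveI := hsm s
    let φ : Spec (CommRingCat.of (AlgebraicClosure (S.residueField s))) ⟶ Spec (S.residueField s) :=
      Spec.map (CommRingCat.ofHom (algebraMap (S.residueField s) (AlgebraicClosure (S.residueField s))))
    show Smooth (pullback.snd G.hom (φ ≫ S.fromSpecResidueField s))
    rw [← pullbackLeftPullbackSndIso_inv_snd_snd G.hom (S.fromSpecResidueField s) φ]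
    haveI : Smooth (pullback.snd (pullback.snd G.hom (S.fromSpecResidueField s)) φ) :=
      MorphismProperty.pullback_snd (P := @Smooth) _ _ (hsm s)
    infer_instance
  haveI : QuasiCompact (Red.geomFibre s G).hom := inferInstanceAs (QuasiCompact (pullback.snd G.hom g))
  have hdim : topologicalKrullDim ↥(Red.geomFibre s G).left ≤ (d : WithBot ℕ∞) := by
    rw [RedOpen.dim_bc G g, hg]
    exact hd s hs
  have hirr : (irreducibleComponents (Red.geomFibre s G).left).encard ≤ N := by
    have h := (GeomComp5.nGeom_eq G.hom g).1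
    rw [show GeomComp5.pt g = s from hg] at h
    exact h.symm.le.trans (hN s hs)
  obtain ⟨h1, h2⟩ := solvable_nilpotent_iff (G := Red.geomFibre s G) hdim hirr
  obtain ⟨h3, h4⟩ := series_notMem_bad (G := G) g hg (N + d)
  exact ⟨h1.trans h3, h2.trans h4⟩

end Groth.Agent.SolvBound
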