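import Mathlib.GroupTheory.Nilpotent
import Mathlib.GroupTheory.Solvable
import Mathlib.GroupTheory.QuotientGroup.Basic
import Mathlib.SetTheory.Cardinal.Finite
import Mathlib.Topology.KrullDimension
import Mathlib.Topology.NoetherianSpace
import Mathlib.Topology.Connected.LocallyConnected

/-!
# A bound on the length of the derived and central series

A group with a Noetherian T1 topology for which translations, inversion and conjugation are continuous, as the
rational points of an algebraic group: the length of its series is bounded by the dimension and the number of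
components.
-/

set_option autoImplicit false
set_option linter.style.haveILetI false

open scoped commutatorElement
open TopologicalSpace

namespace Groth.Agent.SolvBound

variable {H : Type*} [Group H] [TopologicalSpace H]

/-- Translations, inversion and the maps `x ↦ x a x⁻¹` are continuous. -/
structure ContOps (H : Type*) [Group H] [TopologicalSpace H] : Prop where
  left : ∀ a : H, Continuous fun x : H => a * x
  right : ∀ a : H, Continuous fun x : H => x * a
  inv : Continuous fun x : H => x⁻¹
  conj : ∀ a : H, Continuous fun x : H => x * a * x⁻¹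

namespace ContOps

variable (hc : ContOps H)
include hc

theorem comm_left (g : H) : Continuous fun x : H => ⁅x, g⁆ := by
  simp only [commutatorElement_def]
  exact (hc.right g⁻¹).comp (hc.conj g)

theorem comm_right (g : H) : Continuous fun x : H => ⁅g, x⁆ := by
  simpa only [commutatorElement_inv, Function.comp_def] using hc.inv.comp (hc.comm_left g)

/-- The closure of a subgroup. -/
def clo (K : Subgroup H) : Subgroup H where
  carrier := closure K
  one_mem' := subset_closure K.one_mem
  inv_mem' {x} hx := map_mem_closure hc.inv hx fun _ h => K.inv_mem h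
  mul_mem' {x y} hx hy := by
    have h1 : ∀ a ∈ (K : Set H), a * y ∈ closure (K : Set H) := fun a ha =>
      map_mem_closure (f := fun z : H => a * z) (hc.left a) hy fun _ h => K.mul_mem ha h
    have h2 : x * y ∈ closure (closure (K : Set H)) := map_mem_closure (f := fun z : H => z * y) (hc.right y) hx h1
    rwa [closure_closure] at h2

theorem isPreconnected_generated {A : Set H} (hA : IsPreconnected A) (h1 : (1 : H) ∈ A) :
    IsPreconnected (Subgroup.closure A : Set H) := by
  have key : ∀ x ∈ Subgroup.closure A, x ∈ connectedComponentIn (Subgroup.closure A : Set H) 1 := by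
    set C := connectedComponentIn (Subgroup.closure A : Set H) 1
    have hC : IsPreconnected C := isPreconnected_connectedComponentIn
    have hsub : C ⊆ (Subgroup.closure A : Set H) := connectedComponentIn_subset _ _
    have h1C : (1 : H) ∈ C := mem_connectedComponentIn (one_mem _)
    have hAC : A ⊆ C := hA.subset_connectedComponentIn h1 Subgroup.subset_closure
    intro x hx
    induction hx using Subgroup.closure_induction with
    | mem y hy => exact hAC hy
    | one => exact h1C
    | mul a b ha _ iha ihb =>
      have hp : IsPreconnected ((fun z => a * z) '' C) := hC.image _ (hc.left a).continuousOn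
      have ha' : a ∈ (fun z => a * z) '' C := ⟨1, h1C, mul_one a⟩
      have hs : (fun z => a * z) '' C ⊆ (Subgroup.closure A : Set H) := by
        rintro _ ⟨z, hz, rfl⟩
        exact mul_mem ha (hsub hz)
      have h := (hC.union a iha ha' hp).subset_connectedComponentIn (Or.inl h1C) (Set.union_subset hsub hs)
      exact h (Or.inr ⟨b, ihb, rfl⟩)
    | inv a _ iha =>
      have hp : IsPreconnected ((fun z : H => z⁻¹) '' C) := hC.image _ hc.inv.continuousOn
      have hs : (fun z : H => z⁻¹) '' C ⊆ (Subgroup.closure A : Set H) := by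
        rintro _ ⟨z, hz, rfl⟩
        exact inv_mem (hsub hz)
      exact hp.subset_connectedComponentIn ⟨1, h1C, inv_one⟩ hs ⟨a, iha, rfl⟩
  rw [Set.Subset.antisymm (fun x hx => key x hx) (connectedComponentIn_subset _ _)]
  exact isPreconnected_connectedComponentIn

theorem isPreconnected_commutator {K : Subgroup H} (hK : IsPreconnected (K : Set H)) (L : Subgroup H) :
    IsPreconnected ((⁅K, L⁆ : Subgroup H) : Set H) := by
  have e : (⁅K, L⁆ : Subgroup H) = Subgroup.closure (⋃ g ∈ L, (fun x : H => ⁅x, g⁆) '' K) := by
    rw [Subgroup.commutator_def]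
    congr 1
    ext z
    simp only [Set.mem_ofPred_eq, Set.mem_iUnion, Set.mem_image, SetLike.mem_coe]
    exact ⟨fun ⟨a, ha, b, hb, h⟩ => ⟨b, hb, a, ha, h⟩, fun ⟨b, hb, a, ha, h⟩ => ⟨a, ha, b, hb, h⟩⟩
  rw [e]
  refine hc.isPreconnected_generated ?_ ?_
  · refine isPreconnected_of_forall 1 fun y hy => ?_
    simp only [Set.mem_iUnion] at hy
    obtain ⟨g, hg, hy⟩ := hy
    refine ⟨(fun x : H => ⁅x, g⁆) '' K, ?_, ⟨1, K.one_mem, commutatorElement_one_left g⟩, hy, hK.image _ (hc.comm_left g).continuousOn⟩
    intro z hz
    simp only [Set.mem_iUnion]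
    exact ⟨g, hg, hz⟩
  · simp only [Set.mem_iUnion]
    exact ⟨1, L.one_mem, 1, K.one_mem, commutatorElement_one_left 1⟩

theorem commutator_clo_left (K L : Subgroup H) : ⁅hc.clo K, L⁆ ≤ hc.clo ⁅K, L⁆ :=
  Subgroup.commutator_le.2 fun _ ha b hb =>
    map_mem_closure (f := fun z : H => ⁅z, b⁆) (hc.comm_left b) ha fun _ hx => Subgroup.commutator_mem_commutator hx hb

theorem commutator_clo_right (K L : Subgroup H) : ⁅K, hc.clo L⁆ ≤ hc.clo ⁅K, L⁆ :=
  Subgroup.commutator_le.2 fun a ha _ hb =>
    map_mem_closure (f := fun z : H => ⁅a, z⁆) (hc.comm_right a) hb fun _ hx => Subgroup.commutator_mem_commutator ha hx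

/-- A closed connected subgroup is irreducible. -/
theorem isIrreducible_of_isPreconnected [NoetherianSpace H] (K : Subgroup H) (hK : IsPreconnected (K : Set H)) :
    IsIrreducible (K : Set H) := by
  haveI : PreconnectedSpace ↥K := isPreconnected_iff_preconnectedSpace.1 hK
  haveI : NoetherianSpace ↥K := Topology.IsInducing.subtypeVal.noetherianSpace
  haveI : Nonempty ↥K := ⟨1⟩
  have hfin := NoetherianSpace.finite_irreducibleComponents (α := ↥K)
  have hcover : ∀ x : ↥K, ∃ Z ∈ irreducibleComponents ↥K, x ∈ Z := fun x =>
    ⟨_, irreducibleComponent_mem_irreducibleComponents x, mem_irreducibleComponent⟩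
  obtain ⟨Z, hZ, -⟩ := hcover 1
  -- a point of only one component
  obtain ⟨p, hpZ, hp⟩ : ∃ p ∈ Z, ∀ Z' ∈ irreducibleComponents ↥K, p ∈ Z' → Z' = Z := by
    by_contra hcon
    push Not at hcon
    have hsub : Z ⊆ ⋃ Z' ∈ irreducibleComponents ↥K \ {Z}, Z' := fun p hp => by
      obtain ⟨Z', hZ', hpZ', hne⟩ := hcon p hp
      simp only [Set.mem_iUnion]
      exact ⟨Z', ⟨hZ', hne⟩, hpZ'⟩
    obtain ⟨T, hT, hZT⟩ : ∃ T ∈ irreducibleComponents ↥K \ {Z}, Z ⊆ T := by
      classical
      have h := isIrreducible_iff_sUnion_isClosed.1 hZ.1 (hfin.subset Set.sdiff_subset).toFinset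
        (fun T hT => by
          rw [Set.Finite.mem_toFinset] at hT
          exact isClosed_of_mem_irreducibleComponents T hT.1)
        (by
          rw [Set.Finite.coe_toFinset]
          exact hsub.trans (by rw [Set.sUnion_eq_biUnion]))
      obtain ⟨T, hT, hZT⟩ := h
      exact ⟨T, (Set.Finite.mem_toFinset _).1 hT, hZT⟩
    exact hT.2 (le_antisymm (hZ.2 hT.1.1 hZT) hZT)
  have huniq : ∀ x : ↥K, ∀ A ∈ irreducibleComponents ↥K, ∀ B ∈ irreducibleComponents ↥K, x ∈ A → x ∈ B → A = B := by
    intro x A hA B hB hxA hxB
    have hl : ∀ a : ↥K, Continuous fun y : ↥K => a * y := fun a =>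
      Topology.IsInducing.subtypeVal.continuous_iff.2 ((hc.left a.1).comp continuous_subtype_val)
    let e : ↥K ≃ₜ ↥K :=
      { toEquiv := Equiv.mulLeft (p * x⁻¹)
        continuous_toFun := hl _
        continuous_invFun := by
          show Continuous fun y : ↥K => (p * x⁻¹)⁻¹ * y
          exact hl _ }
    have he : e x = p := by
      show p * x⁻¹ * x = p
      group
    have him : ∀ C ∈ irreducibleComponents ↥K, e '' C ∈ irreducibleComponents ↥K := fun C hC => by
      refine ⟨hC.1.image _ e.continuous.continuousOn, fun D hD hCD => ?_⟩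
      have h := hC.2 (hD.image _ e.symm.continuous.continuousOn) (fun y hy => ⟨e y, hCD ⟨y, hy, rfl⟩, e.symm_apply_apply y⟩)
      exact fun z hz => ⟨e.symm z, h ⟨z, hz, rfl⟩, e.apply_symm_apply z⟩
    have h1 := hp _ (him A hA) (he ▸ ⟨x, hxA, rfl⟩)
    have h2 := hp _ (him B hB) (he ▸ ⟨x, hxB, rfl⟩)
    exact Set.image_injective.2 e.injective (h1.trans h2.symm)
  have hZopen : IsOpen Z := by
    have hcompl : Zᶜ = ⋃ Z' ∈ irreducibleComponents ↥K \ {Z}, Z' := by
      ext x
      simp only [Set.mem_compl_iff, Set.mem_iUnion]
      constructor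
      · intro hx
        obtain ⟨Z', hZ', hxZ'⟩ := hcover x
        exact ⟨Z', ⟨hZ', fun h => hx (h ▸ hxZ')⟩, hxZ'⟩
      · rintro ⟨Z', ⟨hZ', hne⟩, hxZ'⟩ hx
        exact hne (huniq x Z' hZ' Z hZ hxZ' hx)
    refine isClosed_compl_iff.1 ?_
    rw [hcompl]
    exact (hfin.subset Set.sdiff_subset).isClosed_biUnion fun T hT => isClosed_of_mem_irreducibleComponents T hT.1
  have htop : Z = Set.univ :=
    IsClopen.eq_univ ⟨isClosed_of_mem_irreducibleComponents Z hZ, hZopen⟩ ⟨p, hpZ⟩
  have := (htop ▸ hZ.1).image ((↑) : ↥K → H) continuous_subtype_val.continuousOn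
  rwa [Set.image_univ, Subtype.range_coe] at this

/-- A decreasing series of connected subgroups whose closures stabilise as soon as two agree vanishes after at
most `dim` steps. -/
theorem series_eq_bot [NoetherianSpace H] [T1Space H] {d : ℕ} (hd : topologicalKrullDim H ≤ d) (E : ℕ → Subgroup H)
    (hconn : ∀ i, IsPreconnected (E i : Set H)) (hanti : Antitone E)
    (hstab : ∀ i, hc.clo (E (i + 1)) = hc.clo (E i) → hc.clo (E (i + 2)) = hc.clo (E (i + 1)))
    (hfin : ∃ M, E M = ⊥) : E d = ⊥ := by
  obtain ⟨M, hM⟩ := hfin
  have hmono : ∀ {A B : Subgroup H}, A ≤ B → hc.clo A ≤ hc.clo B := fun h => closure_mono h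
  have hbot : hc.clo (⊥ : Subgroup H) = ⊥ := SetLike.coe_injective (closure_singleton (x := (1 : H)))
  have hstuck : ∀ i, hc.clo (E (i + 1)) = hc.clo (E i) → E i = ⊥ := by
    intro i h
    have hall : ∀ m, hc.clo (E (i + m + 1)) = hc.clo (E (i + m)) := fun m => by
      induction m with
      | zero => exact h
      | succ m ih => exact hstab _ ih
    have hall' : ∀ m, hc.clo (E (i + m)) = hc.clo (E i) := fun m => by
      induction m with
      | zero => rfl
      | succ m ih => exact (hall m).trans ih
    have hb : hc.clo (E i) = ⊥ := by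
      rcases le_total i M with h' | h'
      · obtain ⟨m, rfl⟩ := Nat.exists_eq_add_of_le h'
        rw [← hall' m, hM, hbot]
      · rw [le_bot_iff.1 ((hanti h').trans hM.le), hbot]
    exact le_bot_iff.1 (hb ▸ (fun x hx => subset_closure hx : E i ≤ hc.clo (E i)))
  by_contra hne
  have hnei : ∀ i ≤ d, E i ≠ ⊥ := fun i hi h => hne (le_bot_iff.1 ((hanti hi).trans h.le))
  let Z : ℕ → IrreducibleCloseds H := fun i =>
    { carrier := hc.clo (E i)
      isIrreducible' := (hc.isIrreducible_of_isPreconnected _ (hconn i)).closure
      isClosed' := isClosed_closure }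
  have hlt : ∀ i ≤ d, Z (i + 1) < Z i := by
    intro i hi
    refine lt_of_le_of_ne (show Z (i + 1) ≤ Z i from hmono (hanti (Nat.le_succ i))) fun h => hnei i hi (hstuck i ?_)
    exact SetLike.coe_injective (congrArg (fun W : IrreducibleCloseds H => (W : Set H)) h)
  let s : LTSeries (IrreducibleCloseds H) :=
    { length := d + 1
      toFun := fun j => Z (d + 1 - j)
      step := fun j => by
        have hj := j.isLt
        show Z (d + 1 - (j.castSucc : ℕ)) < Z (d + 1 - (j.succ : ℕ))
        rw [Fin.val_castSucc, Fin.val_succ, show d + 1 - (j : ℕ) = (d - (j : ℕ)) + 1 by omega,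
          show d + 1 - ((j : ℕ) + 1) = d - (j : ℕ) by omega]
        exact hlt _ (Nat.sub_le d j) }
  have h := (Order.LTSeries.length_le_krullDim s).trans hd
  change ((d + 1 : ℕ) : WithBot ℕ∞) ≤ (d : WithBot ℕ∞) at h
  have := (Nat.cast_le (α := WithBot ℕ∞)).1 h
  omega

end ContOps

/-- In a finite group a decreasing series which stops only at the trivial subgroup does so within `card` steps. -/
theorem series_finite_eq_bot {Q : Type*} [Group Q] [Finite Q] (E : ℕ → Subgroup Q) (hanti : Antitone E)
    (hstab : ∀ i, E (i + 1) = E i → E (i + 2) = E (i + 1)) (hfin : ∃ M, E M = ⊥) {N : ℕ} (hN : Nat.card Q ≤ N) :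
    E N = ⊥ := by
  obtain ⟨M, hM⟩ := hfin
  have hstuck : ∀ i, E (i + 1) = E i → E i = ⊥ := by
    intro i h
    have hall : ∀ m, E (i + m + 1) = E (i + m) := fun m => by
      induction m with
      | zero => exact h
      | succ m ih => exact hstab _ ih
    have hall' : ∀ m, E (i + m) = E i := fun m => by
      induction m with
      | zero => rfl
      | succ m ih => exact (hall m).trans ih
    rcases le_total i M with h' | h'
    · obtain ⟨m, rfl⟩ := Nat.exists_eq_add_of_le h'
      rw [← hall' m, hM]
    · exact le_bot_iff.1 ((hanti h').trans hM.le)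
  have hcard : ∀ i, E i = ⊥ ∨ Nat.card ↥(E i) + i ≤ Nat.card Q := by
    intro i
    induction i with
    | zero => exact Or.inr (by simpa using Subgroup.card_le_card_group (E 0))
    | succ i ih =>
      by_cases h : E i = ⊥
      · exact Or.inl (le_bot_iff.1 ((hanti (Nat.le_succ i)).trans h.le))
      · refine Or.inr ?_
        have hlt : E (i + 1) < E i := lt_of_le_of_ne (hanti (Nat.le_succ i)) fun e => h (hstuck i e)
        have h2 := (SetLike.coe_ssubset_coe.2 hlt : (E (i + 1) : Set Q) ⊂ E i)
        have h3 := Set.ncard_lt_ncard h2 (Set.toFinite _)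
        rw [← Nat.card_coe_set_eq, ← Nat.card_coe_set_eq] at h3
        change Nat.card ↥(E (i + 1)) < Nat.card ↥(E i) at h3
        rcases ih with ih | ih
        · exact absurd ih h
        · omega
  rcases hcard N with h | h
  · exact h
  · have := Nat.card_pos (α := ↥(E N))
    omega

variable (hc : ContOps H)
include hc

/-- The component of one. -/
def identComp : Subgroup H where
  carrier := connectedComponent (1 : H)
  one_mem' := mem_connectedComponent
  mul_mem' {x y} hx hy := by
    have hp : IsPreconnected ((fun z : H => x * z) '' connectedComponent (1 : H)) :=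
      isPreconnected_connectedComponent.image _ (hc.left x).continuousOn
    have h := (isPreconnected_connectedComponent.union x hx (⟨1, mem_connectedComponent, mul_one x⟩ :
      x ∈ (fun z : H => x * z) '' connectedComponent (1 : H)) hp).subset_connectedComponent
      (Or.inl mem_connectedComponent)
    exact h (Or.inr ⟨y, hy, rfl⟩)
  inv_mem' {x} hx :=
    (isPreconnected_connectedComponent.image _ hc.inv.continuousOn).subset_connectedComponent
      ⟨1, mem_connectedComponent, inv_one⟩ ⟨x, hx, rfl⟩

theorem identComp_normal : (identComp hc).Normal :=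
  ⟨fun x hx g =>
    (isPreconnected_connectedComponent.image (fun z : H => g * z * g⁻¹)
      (((hc.right g⁻¹).comp (hc.left g)).continuousOn)).subset_connectedComponent
        ⟨1, mem_connectedComponent, by group⟩ ⟨x, hx, rfl⟩⟩

theorem quotient_card [Finite (ConnectedComponents H)] :
    Finite (H ⧸ identComp hc) ∧ Nat.card (H ⧸ identComp hc) ≤ Nat.card (ConnectedComponents H) := by
  let f : ConnectedComponents H → H ⧸ identComp hc := Quotient.lift (fun x : H => (x : H ⧸ identComp hc))
    (fun x y (hxy : connectedComponent x = connectedComponent y) => by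
      refine QuotientGroup.eq.2 ?_
      have h := (isPreconnected_connectedComponent.image (fun z : H => x⁻¹ * z)
        (hc.left x⁻¹).continuousOn).subset_connectedComponent (x := (1 : H))
        ⟨x, mem_connectedComponent, inv_mul_cancel x⟩
      exact h ⟨y, hxy ▸ mem_connectedComponent, rfl⟩)
  have hf : Function.Surjective f := fun q => by
    obtain ⟨x, rfl⟩ := QuotientGroup.mk_surjective q
    exact ⟨ConnectedComponents.mk x, rfl⟩
  exact ⟨Finite.of_surjective f hf, Nat.card_le_card_of_surjective f hf⟩

/-- The derived length is bounded by the number of components plus the dimension. -/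
theorem derivedSeries_eq_bot [NoetherianSpace H] [T1Space H] {d N : ℕ} (hd : topologicalKrullDim H ≤ d)
    [Finite (ConnectedComponents H)] (hN : Nat.card (ConnectedComponents H) ≤ N)
    (hsolv : ∃ n, derivedSeries H n = ⊥) : derivedSeries H (N + d) = ⊥ := by
  obtain ⟨M, hM⟩ := hsolv
  haveI := identComp_normal hc
  obtain ⟨hfin, hcard⟩ := quotient_card hc
  let π := QuotientGroup.mk' (identComp hc)
  have hπ : Function.Surjective π := QuotientGroup.mk'_surjective _
  have hq : derivedSeries (H ⧸ identComp hc) N = ⊥ :=
    series_finite_eq_bot (derivedSeries _) (derivedSeries_antitone _)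
      (fun i h => by rw [derivedSeries_succ _ (i + 1), h, ← derivedSeries_succ, h])
      ⟨M, by rw [← map_derivedSeries_eq hπ, hM, Subgroup.map_bot]⟩ (hcard.trans hN)
  have hN0 : derivedSeries H N ≤ identComp hc := by
    rw [← map_derivedSeries_eq hπ] at hq
    exact ((Subgroup.map_eq_bot_iff _).1 hq).trans (le_of_eq (QuotientGroup.ker_mk' _))
  let E : ℕ → Subgroup H := fun i => Nat.rec (identComp hc) (fun _ K => ⁅K, K⁆) i
  have hle : ∀ i, derivedSeries H (N + i) ≤ E i := fun i => by
    induction i with
    | zero => exact hN0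
    | succ i ih => exact Subgroup.commutator_mono ih ih
  have hle' : ∀ i, E i ≤ derivedSeries H i := fun i => by
    induction i with
    | zero => exact le_top
    | succ i ih => exact Subgroup.commutator_mono ih ih
  have hnormal : ∀ i, (E i).Normal := fun i => by
    induction i with
    | zero => exact identComp_normal hc
    | succ i ih => exact Subgroup.commutator_normal (E i) (E i)
  refine le_bot_iff.1 ((hle d).trans (le_of_eq (hc.series_eq_bot hd E (fun i => ?_) ?_ ?_ ⟨M, le_bot_iff.1 ((hle' M).trans hM.le)⟩)))
  · induction i with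
    | zero => exact isPreconnected_connectedComponent
    | succ i ih => exact hc.isPreconnected_commutator ih (E i)
  · exact antitone_nat_of_succ_le fun i => @Subgroup.commutator_le_left _ _ (E i) (E i) (hnormal i)
  · intro i h
    haveI := hnormal i
    refine le_antisymm (closure_mono (@Subgroup.commutator_le_left _ _ (E (i + 1)) (E (i + 1)) (hnormal (i + 1)))) ?_
    have hle2 : E i ≤ hc.clo (E (i + 1)) := h ▸ fun x hx => subset_closure hx
    have h1 : ⁅E i, E i⁆ ≤ hc.clo (E (i + 2)) := by
      refine Subgroup.commutator_le.2 fun a ha b hb => ?_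
      -- `[E_{i+1}, E_i]` lies in the closure, hence so does `[a, b]`
      have hb' : ∀ y ∈ E (i + 1), ⁅a, y⁆ ∈ hc.clo (E (i + 2)) := fun y hy =>
        map_mem_closure (f := fun z : H => ⁅z, y⁆) (hc.comm_left y) (hle2 ha) fun _ hx => Subgroup.commutator_mem_commutator hx hy
      have h2 : ⁅a, b⁆ ∈ closure (hc.clo (E (i + 2)) : Set H) := map_mem_closure (f := fun z : H => ⁅a, z⁆) (hc.comm_right a) (hle2 hb) hb'
      exact (isClosed_closure.closure_subset) h2
    exact closure_minimal h1 isClosed_closure

/-- The nilpotency class is bounded by the number of components plus the dimension. -/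
theorem lowerCentralSeries_eq_bot [NoetherianSpace H] [T1Space H] {d N : ℕ} (hd : topologicalKrullDim H ≤ d)
    [Finite (ConnectedComponents H)] (hN : Nat.card (ConnectedComponents H) ≤ N)
    (hnil : ∃ n, (⊤ : Subgroup H).lowerCentralSeries n = ⊥) : (⊤ : Subgroup H).lowerCentralSeries (N + d) = ⊥ := by
  obtain ⟨M, hM⟩ := hnil
  haveI := identComp_normal hc
  obtain ⟨hfin, hcard⟩ := quotient_card hc
  let π := QuotientGroup.mk' (identComp hc)
  have hπ : Function.Surjective π := QuotientGroup.mk'_surjective _
  have hmap : ∀ n, ((⊤ : Subgroup H).lowerCentralSeries n).map π = (⊤ : Subgroup (H ⧸ identComp hc)).lowerCentralSeries n :=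
    fun n => by rw [Subgroup.map_lowerCentralSeries, Subgroup.map_top_of_surjective π hπ]
  have hq : (⊤ : Subgroup (H ⧸ identComp hc)).lowerCentralSeries N = ⊥ :=
    series_finite_eq_bot _ (Subgroup.lowerCentralSeries_antitone (⊤ : Subgroup (H ⧸ identComp hc)))
      (fun i h => by rw [Subgroup.lowerCentralSeries_succ _ (i + 1), h, ← Subgroup.lowerCentralSeries_succ, h])
      ⟨M, by rw [← hmap, hM, Subgroup.map_bot]⟩ (hcard.trans hN)
  have hN0 : (⊤ : Subgroup H).lowerCentralSeries N ≤ identComp hc := by
    rw [← hmap] at hq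
    exact ((Subgroup.map_eq_bot_iff _).1 hq).trans (le_of_eq (QuotientGroup.ker_mk' _))
  let E : ℕ → Subgroup H := fun i => Nat.rec (identComp hc) (fun _ K => ⁅K, ⊤⁆) i
  have hle : ∀ i, (⊤ : Subgroup H).lowerCentralSeries (N + i) ≤ E i := fun i => by
    induction i with
    | zero => exact hN0
    | succ i ih =>
      rw [← Nat.add_assoc, Subgroup.lowerCentralSeries_succ]
      exact Subgroup.commutator_mono ih le_rfl
  have hle' : ∀ i, E i ≤ (⊤ : Subgroup H).lowerCentralSeries i := fun i => by
    induction i with
    | zero => exact le_top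
    | succ i ih =>
      rw [Subgroup.lowerCentralSeries_succ]
      exact Subgroup.commutator_mono ih le_rfl
  have hnormal : ∀ i, (E i).Normal := fun i => by
    induction i with
    | zero => exact identComp_normal hc
    | succ i ih => exact Subgroup.commutator_normal (E i) ⊤
  refine le_bot_iff.1 ((hle d).trans (le_of_eq (hc.series_eq_bot hd E (fun i => ?_) ?_ ?_ ⟨M, le_bot_iff.1 ((hle' M).trans hM.le)⟩)))
  · induction i with
    | zero => exact isPreconnected_connectedComponent
    | succ i ih => exact hc.isPreconnected_commutator ih ⊤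
  · exact antitone_nat_of_succ_le fun i => @Subgroup.commutator_le_left _ _ (E i) ⊤ (hnormal i)
  · intro i h
    refine le_antisymm (closure_mono (@Subgroup.commutator_le_left _ _ (E (i + 1)) (⊤ : Subgroup H) (hnormal (i + 1)))) ?_
    have hle2 : E i ≤ hc.clo (E (i + 1)) := h ▸ fun x hx => subset_closure hx
    refine closure_minimal ?_ isClosed_closure
    exact (Subgroup.commutator_mono hle2 le_rfl).trans (hc.commutator_clo_left (E (i + 1)) ⊤)

end Groth.Agent.SolvBound
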